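import Mathlib
import Cfsg.Prelude.Def_Characters
import Cfsg.Prelude.Def_Blocks

/-!
# S4756: definitions for the farm (helper79)

`CopPP x y`: `x`, `y` have prime power orders for two different primes.
`Mult G`: hypothesis (1) of S4756: every irreducible character is multiplicative on pairs of
non-identity elements with `CopPP`.
`OffP p y`: `y` has prime power order for a prime different from `p`.
-/

set_option autoImplicit false

universe u

namespace Cfsg.Agent.Helper79.Mult

open Cfsg

/-- `x`, `y` have prime power orders for two different primes -/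
def CopPP {G : Type u} [Group G] (x y : G) : Prop :=
  ∃ p q a b : ℕ, p.Prime ∧ q.Prime ∧ p ≠ q ∧ orderOf x = p ^ a ∧ orderOf y = q ^ b

/-- hypothesis (1) of S4756 -/
def Mult (G : Type u) [Group G] : Prop :=
  ∀ (x y : G) (χ : Cfsg.IrrCharacter G), x ≠ 1 → y ≠ 1 → CopPP x y →
    (χ : G → ℂ) (x * y) = (χ : G → ℂ) x * (χ : G → ℂ) y

/-- `y` has prime power order for a prime different from `p` -/
def OffP {G : Type u} [Group G] (p : ℕ) (y : G) : Prop :=
  ∃ q b : ℕ, q.Prime ∧ q ≠ p ∧ orderOf y = q ^ b

end Cfsg.Agent.Helper79.Mult
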