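import Mathlib
import Cfsg.Agent.Helper79.Mult.Defs

/-!
# S4756 piece (AR) (hedge copy by the architect)
-/

set_option autoImplicit false

universe u

namespace Cfsg.Agent.Helper79.Mult.Hedge

/-- (AR) two different primes cannot both carry more than the square root. -/
theorem arith_two_primes (N p q d e : ℕ) (hN : 0 < N) (hp : p.Prime) (hq : q.Prime) (hpq : p ≠ q)
    (hd0 : 0 < d) (he0 : 0 < e)
    (hd : ordCompl[p] N ∣ d) (hd2 : d ^ 2 < N) (he : ordCompl[q] N ∣ e) (he2 : e ^ 2 < N) : False := by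
  have hN0 : N ≠ 0 := hN.ne'
  -- a = p'-part, P = p-part
  have hprodp : ordProj[p] N * ordCompl[p] N = N := Nat.ordProj_mul_ordCompl_eq_self N p
  have hprodq : ordProj[q] N * ordCompl[q] N = N := Nat.ordProj_mul_ordCompl_eq_self N q
  have hap : 0 < ordCompl[p] N := Nat.ordCompl_pos p hN0
  have haq : 0 < ordCompl[q] N := Nat.ordCompl_pos q hN0
  have hPp : 0 < ordProj[p] N := Nat.ordProj_pos N p
  have hPq : 0 < ordProj[q] N := Nat.ordProj_pos N q
  have h1 : ordCompl[p] N < ordProj[p] N := by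
    have hle : ordCompl[p] N ≤ d := Nat.le_of_dvd hd0 hd
    have : ordCompl[p] N * ordCompl[p] N < ordProj[p] N * ordCompl[p] N := by
      calc ordCompl[p] N * ordCompl[p] N ≤ d * d := Nat.mul_le_mul hle hle
        _ = d ^ 2 := (sq d).symm
        _ < N := hd2
        _ = ordProj[p] N * ordCompl[p] N := hprodp.symm
    exact Nat.lt_of_mul_lt_mul_right this
  have h2 : ordCompl[q] N < ordProj[q] N := by
    have hle : ordCompl[q] N ≤ e := Nat.le_of_dvd he0 he
    have : ordCompl[q] N * ordCompl[q] N < ordProj[q] N * ordCompl[q] N := by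
      calc ordCompl[q] N * ordCompl[q] N ≤ e * e := Nat.mul_le_mul hle hle
        _ = e ^ 2 := (sq e).symm
        _ < N := he2
        _ = ordProj[q] N * ordCompl[q] N := hprodq.symm
    exact Nat.lt_of_mul_lt_mul_right this
  -- q-part divides p'-part
  have h3 : ordProj[q] N ∣ ordCompl[p] N := by
    have hdvd : ordProj[q] N ∣ ordProj[p] N * ordCompl[p] N := by
      rw [hprodp]; exact Nat.ordProj_dvd N q
    have hcop : Nat.Coprime (ordProj[q] N) (ordProj[p] N) :=
      Nat.Coprime.pow _ _ ((Nat.coprime_primes hq hp).mpr (Ne.symm hpq))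
    exact hcop.dvd_of_dvd_mul_left hdvd
  have h4 : ordProj[p] N ∣ ordCompl[q] N := by
    have hdvd : ordProj[p] N ∣ ordProj[q] N * ordCompl[q] N := by
      rw [hprodq]; exact Nat.ordProj_dvd N p
    have hcop : Nat.Coprime (ordProj[p] N) (ordProj[q] N) :=
      Nat.Coprime.pow _ _ ((Nat.coprime_primes hp hq).mpr hpq)
    exact hcop.dvd_of_dvd_mul_left hdvd
  have h5 : ordProj[q] N ≤ ordCompl[p] N := Nat.le_of_dvd hap h3
  have h6 : ordProj[p] N ≤ ordCompl[q] N := Nat.le_of_dvd haq h4
  omega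

end Cfsg.Agent.Helper79.Mult.Hedge
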