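import Mathlib
import Cfsg.Agent.Helper79.Mult.Defs

/-!
# S4756 piece (COM) (hedge copy by the architect)
-/

set_option autoImplicit false

universe u

namespace Cfsg.Agent.Helper79.Mult.Hedge

open Cfsg Cfsg.Agent.Helper79.Mult

variable {G : Type u} [Group G] [Finite G]

/-- (COM) `d ↦ y d y⁻¹ d⁻¹` is injective on `D`, hence onto. -/
theorem le_commutator_of_fpf (A P D : Subgroup G) [hDn : D.Normal] (hDP : D ≤ P) (y : G) (hyA : y ∈ A)
    (hfpf : ∀ d ∈ D, y * d = d * y → d = 1) : D ≤ ⁅A, P⁆ := by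
  classical
  let f : D → D := fun d => ⟨y * d * y⁻¹ * (d : G)⁻¹,
    D.mul_mem (hDn.conj_mem d d.2 y) (D.inv_mem d.2)⟩
  have hinj : Function.Injective f := by
    intro d e hde
    have h1 : y * d * y⁻¹ * (d : G)⁻¹ = y * e * y⁻¹ * (e : G)⁻¹ := congrArg Subtype.val hde
    have h2 : y * ((e : G)⁻¹ * d) = ((e : G)⁻¹ * d) * y := by
      have h3 : (d : G) * y⁻¹ * (d : G)⁻¹ = e * y⁻¹ * (e : G)⁻¹ := by
        have := congrArg (fun z => y⁻¹ * z) h1
        simpa [mul_assoc] using this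
      have h4 : ((e : G)⁻¹ * d) * y⁻¹ = y⁻¹ * ((e : G)⁻¹ * d) := by
        calc ((e : G)⁻¹ * d) * y⁻¹ = (e : G)⁻¹ * ((d : G) * y⁻¹ * (d : G)⁻¹) * d := by group
          _ = (e : G)⁻¹ * ((e : G) * y⁻¹ * (e : G)⁻¹) * d := by rw [h3]
          _ = y⁻¹ * ((e : G)⁻¹ * d) := by group
      calc y * ((e : G)⁻¹ * d) = y * (((e : G)⁻¹ * d) * y⁻¹) * y := by group
        _ = y * (y⁻¹ * ((e : G)⁻¹ * d)) * y := by rw [h4]
        _ = ((e : G)⁻¹ * d) * y := by group
    have h5 := hfpf ((e : G)⁻¹ * d) (D.mul_mem (D.inv_mem e.2) d.2) h2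
    apply Subtype.ext
    calc (d : G) = e * ((e : G)⁻¹ * d) := by group
      _ = e := by rw [h5, mul_one]
  have hsurj : Function.Surjective f := Finite.surjective_of_injective hinj
  intro w hw
  obtain ⟨d, hd⟩ := hsurj ⟨w, hw⟩
  have hw' : w = y * d * y⁻¹ * (d : G)⁻¹ := (congrArg Subtype.val hd).symm
  rw [hw']
  have := Subgroup.commutator_mem_commutator hyA (hDP d.2)
  rwa [commutatorElement_def] at this

end Cfsg.Agent.Helper79.Mult.Hedge
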