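import Mathlib
import Cfsg.Agent.Helper79.Mult.Defs
import Cfsg.Agent.Helper79.Linear
import Cfsg.Agent.Helper74.CharBasic

/-!
# S4756 piece (DIV) (hedge copy by the architect)
-/

set_option autoImplicit false

universe u

namespace Cfsg.Agent.Helper79.Mult.Hedge

open Cfsg Cfsg.Agent.Helper79.Mult

variable {G : Type u} [Group G] [Finite G]

/-- (DIV) a character vanishing on `R \ {1}` has degree divisible by `|R|`. -/
theorem card_dvd_degree (R : Subgroup G) (χ : IrrCharacter G)
    (hv : ∀ g ∈ R, g ≠ 1 → (χ : G → ℂ) g = 0) : Nat.card R ∣ Cfsg.charDegree (χ : G → ℂ) := by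
  classical
  let _ : Fintype R := Fintype.ofFinite R
  have hχc : IsCharacter G (χ : G → ℂ) := Helper74.isCharacter_of_isIrr χ.2
  have hres : IsCharacter R (fun r : R => (χ : G → ℂ) r) := Helper74.isCharacter_restrict R hχc
  obtain ⟨m, hm⟩ := Helper74.isCharacter_inner_irr_nat hres
    ⟨fun _ => (1 : ℂ), Cfsg.Agent.Helper79.isIrrCharacter_one⟩
  have hsum : ∑ r : R, (χ : G → ℂ) r * (starRingEnd ℂ) (1 : ℂ) = (χ : G → ℂ) 1 := by
    rw [Finset.sum_eq_single (1 : R)]
    · simp
    · intro r _ hr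
      have : (χ : G → ℂ) (r : G) = 0 := hv r r.2 (fun h => hr (Subtype.ext h))
      rw [this, zero_mul]
    · intro h; exact absurd (Finset.mem_univ _) h
  have hm' : (Nat.card R : ℂ)⁻¹ * (χ : G → ℂ) 1 = m := by
    have : classInner (fun r : R => (χ : G → ℂ) r) (fun _ => (1 : ℂ)) = m := hm
    unfold classInner at this
    rw [hsum] at this
    exact this
  have hcard : (Nat.card R : ℂ) ≠ 0 := by
    exact_mod_cast (Nat.card_pos (α := R)).ne'
  have hdeg : (Cfsg.charDegree (χ : G → ℂ) : ℂ) = (χ : G → ℂ) 1 := Helper74.charDegree_cast hχc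
  have heq : (Cfsg.charDegree (χ : G → ℂ) : ℂ) = ((Nat.card R * m : ℕ) : ℂ) := by
    rw [hdeg]
    push_cast
    rw [← hm']
    field_simp
  have : Cfsg.charDegree (χ : G → ℂ) = Nat.card R * m := by exact_mod_cast heq
  exact Dvd.intro m this.symm

end Cfsg.Agent.Helper79.Mult.Hedge
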