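import Mathlib
import Cfsg.Agent.Helper79.Mult.Defs
import Cfsg.Agent.Helper32.MultKEY
import Cfsg.Agent.Helper32.MultDIVC
import Cfsg.Agent.Helper79.Mult.PieceDIV
import Cfsg.Agent.Helper79.Mult.PieceAR
import Cfsg.Agent.Helper29.MultSQ
import Cfsg.Agent.Helper29.MultNL
import Cfsg.Agent.Helper63.MultSPLIT
import Cfsg.Agent.Helper63.MultCPA
import Cfsg.Agent.Helper90.MultGP
import Cfsg.Agent.Helper90.MultCYC
import Cfsg.Agent.Helper67.MultFIX
import Cfsg.Agent.Helper67.MultCONJ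
import Cfsg.Agent.Helper79.Mult.PieceCOM
import Cfsg.Agent.Helper55.MultCD
import Cfsg.Agent.Helper12.MultAB
import Cfsg.Agent.Helper12.MultCEN
import Cfsg.Agent.Helper60.MultFPG
import Cfsg.Agent.Helper60.MultNP

/-!
# S4756: the farmed pieces, restated under the skeleton header (architect helper79)

(1) ⇒ (2): class-sum identity ⇒ nonlinear `χ` has `χ x * χ y = 0` ⇒ one prime `p` off which all nonlinear characters vanish
⇒ `|C_G(y)| = |G : G'|` for `y` of prime power order off `p` ⇒ `G'` is a `p`-group ⇒ structure.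
(2) ⇒ (1): `|C_G(g)| ≤ |G : D|` for `g ∉ P` ⇒ nonlinear characters vanish off `P`.
Every piece: own file `Cfsg/Agent/<Seat>/Mult<TAG>.lean`, namespace `Cfsg.Agent.<Seat>.Mult`, `import Cfsg.Agent.Helper79.Mult.Defs`
(+ anything on main), `open Cfsg Cfsg.Agent.Helper79.Mult`, `universe u`, the `variable` line below, statement VERBATIM.
-/

set_option autoImplicit false

universe u

namespace Cfsg.Agent.Helper79.Mult.Skel

open Cfsg Cfsg.Agent.Helper79.Mult

variable {G : Type u} [Group G] [Finite G]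

/-! ## character theory -/

/-- (KEY) Under `Mult G` a nonlinear irreducible character has `χ x * χ y = 0`.
PROOF: `Cfsg.Agent.Helper3.sum_irr_mul_conj` (file Helper3/QuatKer.lean): `∑ g, χ (x * (g * y * g⁻¹)) = |G| * χ y / χ 1 * χ x`.
Each `g * y * g⁻¹` is `≠ 1` with the same order, so by `h` every summand is `χ x * χ (g y g⁻¹) = χ x * χ y`
(class function: `Helper74.isClassFunction_of_isCharacter`).  Hence `|G| χ x χ y = |G| χ x χ y / χ 1`, and `χ 1 ≠ 1`, `χ 1 ≠ 0`. -/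
theorem mul_eq_zero_of_mult (h : Mult G) (χ : IrrCharacter G) (hχ : (χ : G → ℂ) 1 ≠ 1) (x y : G)
    (hx : x ≠ 1) (hy : y ≠ 1) (hxy : CopPP x y) : (χ : G → ℂ) x * (χ : G → ℂ) y = 0 := by
  exact Cfsg.Agent.Helper32.Mult.mul_eq_zero_of_mult h χ hχ x y hx hy hxy

/-- (DIV) a character vanishing on `R \ {1}` has degree divisible by `|R|`.
PROOF: `χ_R` is a character of `R` (`Helper74.isCharacter_restrict`), its inner product with the trivial character of `R`
is `χ 1 / |R|` and is a natural number (`Helper74.isCharacter_inner_irr_nat` with the trivial irreducible character). -/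
theorem card_dvd_degree (R : Subgroup G) (χ : IrrCharacter G)
    (hv : ∀ g ∈ R, g ≠ 1 → (χ : G → ℂ) g = 0) : Nat.card R ∣ Cfsg.charDegree (χ : G → ℂ) := by
  exact Cfsg.Agent.Helper79.Mult.Hedge.card_dvd_degree R χ hv

/-- (SQ) `χ(1)^2 < |G|` for nonlinear `χ` (`Cfsg.Agent.S0134.result`: sum of squares; there is a linear character by
`Cfsg.Agent.S0154.result` since the index is positive; `Helper74.charDegree_cast`). -/
theorem degree_sq_lt_card (χ : IrrCharacter G) (hχ : (χ : G → ℂ) 1 ≠ 1) :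
    Cfsg.charDegree (χ : G → ℂ) ^ 2 < Nat.card G := by
  exact Cfsg.Agent.Helper29.Mult.degree_sq_lt_card χ hχ

/-- (NL) a nonabelian group has a nonlinear irreducible character (`S0134` + `S0154`: if all were linear then
`|G| = #Irr = |G : G'|`, so `G' = ⊥`). -/
theorem exists_nonlinear (h : ¬ ∀ a b : G, a * b = b * a) : ∃ χ : IrrCharacter G, (χ : G → ℂ) 1 ≠ 1 := by
  exact Cfsg.Agent.Helper29.Mult.exists_nonlinear h

/-- (SPLIT) column orthogonality split into linear and nonlinear characters.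
PROOF: `Cfsg.Agent.Helper82.sum_irr_normSq_eq_card_centralizer`, `Cfsg.Agent.S0154.result`; a linear character has
`‖χ g‖ = 1` (`Helper15.linChar_mul`: `χ g ^ orderOf g = 1`). -/
theorem card_centralizer_eq_add (g : G) :
    (Nat.card (Subgroup.centralizer ({g} : Set G)) : ℝ) =
      ((commutator G).index : ℝ) + ∑ᶠ χ : {χ : IrrCharacter G // (χ : G → ℂ) 1 ≠ 1}, ‖((χ : IrrCharacter G) : G → ℂ) g‖ ^ 2 := by
  exact Cfsg.Agent.Helper63.Mult.card_centralizer_eq_add g

/-! ## arithmetic -/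

/-- (AR) two different primes cannot both carry more than the square root. -/
theorem arith_two_primes (N p q d e : ℕ) (hN : 0 < N) (hp : p.Prime) (hq : q.Prime) (hpq : p ≠ q)
    (hd0 : 0 < d) (he0 : 0 < e)
    (hd : ordCompl[p] N ∣ d) (hd2 : d ^ 2 < N) (he : ordCompl[q] N ∣ e) (he2 : e ^ 2 < N) : False := by
  exact Cfsg.Agent.Helper79.Mult.Hedge.arith_two_primes N p q d e hN hp hq hpq hd0 he0 hd hd2 he he2

/-- (DIVC) a character vanishing off `p` has degree divisible by the `p'`-part of `|G|`.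
`hDIV` is piece (DIV).  Apply it to a Sylow `r`-subgroup for each prime `r ≠ p`
(`Sylow.card_eq_multiplicity`, elements of a Sylow `r`-subgroup have `r`-power order), then
`Nat.factorization_le_iff_dvd` / `Nat.factorization_prime_le_iff_dvd`. -/
theorem ordCompl_dvd_degree
    (hDIV : ∀ (R : Subgroup G) (χ : IrrCharacter G),
      (∀ g ∈ R, g ≠ 1 → (χ : G → ℂ) g = 0) → Nat.card R ∣ Cfsg.charDegree (χ : G → ℂ))
    (p : ℕ) (hp : p.Prime) (χ : IrrCharacter G)
    (hv : ∀ y : G, y ≠ 1 → OffP p y → (χ : G → ℂ) y = 0) :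
    ordCompl[p] (Nat.card G) ∣ Cfsg.charDegree (χ : G → ℂ) := by
  exact Cfsg.Agent.Helper32.Mult.ordCompl_dvd_degree hDIV p hp χ hv

/-! ## group theory for (1) ⇒ (2) -/

/-- (GP) `G'` is a `p`-group.  PROOF: let `q ≠ p` divide `|G'|`, `Q` a Sylow `q`-subgroup of `G`, `1 ≠ y ∈ Z(Q)`
(`IsPGroup.center_nontrivial`); `Q ≤ C_G(y)` so `|Q|` divides `|G : G'|`, and `|G| = |G : G'| |G'|` gives `q ∤ |G'|`. -/
theorem isPGroup_commutator (p : ℕ) (hp : p.Prime)
    (h : ∀ y : G, y ≠ 1 → OffP p y →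
      Nat.card (Subgroup.centralizer ({y} : Set G)) = (commutator G).index) :
    IsPGroup p (commutator G) := by
  exact Cfsg.Agent.Helper90.Mult.isPGroup_commutator p hp h

/-- (FIX) every coset of `D` contains an element commuting with `y`.  PROOF: `y (gD) y⁻¹ = gD` as `G' ≤ D`; conjugation by `y`
is a permutation `f` of the set `gD` with `f ^ (q ^ b) = 1`, `|gD| = |D|` is a power of `p`, so prime to `q`:
`Equiv.Perm.card_fixedPoints_modEq` (or `IsPGroup.card_modEq_card_fixedPoints` for `zpowers y`) gives a fixed point. -/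
theorem exists_commute_in_coset (p : ℕ) (hp : p.Prime) (D : Subgroup G) [D.Normal] (hD : IsPGroup p D)
    (hGD : commutator G ≤ D) (y : G) (hy : OffP p y) (g : G) :
    ∃ d ∈ D, y * (g * d) = (g * d) * y := by
  exact Cfsg.Agent.Helper67.Mult.exists_commute_in_coset p hp D hD hGD y hy g

/-- (CD) counting: `C_G(y) → G/D` is onto with kernel `C_D(y)`. -/
theorem commute_eq_one_of_card (D : Subgroup G) [D.Normal] (y : G)
    (hfix : ∀ g : G, ∃ d ∈ D, y * (g * d) = (g * d) * y)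
    (hcard : Nat.card (Subgroup.centralizer ({y} : Set G)) = D.index) :
    ∀ d ∈ D, y * d = d * y → d = 1 := by
  exact Cfsg.Agent.Helper55.Mult.commute_eq_one_of_card D y hfix hcard

/-- (COM) `d ↦ y d y⁻¹ d⁻¹` is injective on `D`, hence onto. -/
theorem le_commutator_of_fpf (A P D : Subgroup G) [D.Normal] (hDP : D ≤ P) (y : G) (hyA : y ∈ A)
    (hfpf : ∀ d ∈ D, y * d = d * y → d = 1) : D ≤ ⁅A, P⁆ := by
  exact Cfsg.Agent.Helper79.Mult.Hedge.le_commutator_of_fpf A P D hDP y hyA hfpf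

/-- (CPA) an element commuting with `y` commutes with all of the abelian group `A ∋ y`:
`a c a⁻¹ c⁻¹ ∈ G'` commutes with `y`. -/
theorem commute_of_commute_single (A : Subgroup G) (hA : ∀ a ∈ A, ∀ b ∈ A, a * b = b * a)
    (y : G) (hyA : y ∈ A) (hfpf : ∀ d ∈ commutator G, y * d = d * y → d = 1)
    (c : G) (hc : y * c = c * y) : ∀ a ∈ A, a * c = c * a := by
  exact Cfsg.Agent.Helper63.Mult.commute_of_commute_single A hA y hyA hfpf c hc

/-- (CYC) an abelian `p'`-group acting fixed point freely on a nontrivial `p`-group is cyclic.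
PROOF: `Cfsg.Agent.Helper69.Tor.isCyclic_of_card_torsion_le` (Helper69/TorCYC.lean) for `↥A`: suppose more than `ℓ` solutions of
`a ^ ℓ = 1`; pick `b ≠ 1` among them and `a` outside `zpowers b` (which has `ℓ` elements).  Work in `V = Z(D)` (abelian, normal in `G`,
`≠ ⊥` by `IsPGroup.center_nontrivial`).  For `c ∈ A`, `c ≠ 1`, `c ^ ℓ = 1` and `v ∈ V`: `N_c(v) = ∏_{i<ℓ} c^i v c^-i` is fixed by `c`, so `= 1`.
`∏_{j<ℓ} N_{a b^j}(v) = ∏_i a^i (∏_j b^{ij} v b^{-ij}) a^-i = v ^ ℓ * ∏_{0<i<ℓ} a^i N_{b^i}(v) a^-i = v ^ ℓ`; so `v ^ ℓ = 1`, and `v` is a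
`p`-element, `ℓ ≠ p`: `v = 1`. -/
theorem isCyclic_of_fpf (p : ℕ) (hp : p.Prime) (A D : Subgroup G) [D.Normal] (hD : IsPGroup p D) (hD1 : D ≠ ⊥)
    (hA : ∀ a ∈ A, ∀ b ∈ A, a * b = b * a) (hcop : (Nat.card A).Coprime p)
    (hfpf : ∀ a ∈ A, a ≠ 1 → ∀ d ∈ D, a * d = d * a → d = 1) : IsCyclic A := by
  exact Cfsg.Agent.Helper90.Mult.isCyclic_of_fpf p hp A D hD hD1 hA hcop hfpf

/-! ## group theory for (2) ⇒ (1) -/

/-- (AB) `G/D` is abelian when `G` is generated by `D` and two commuting abelian subgroups. -/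
theorem commutator_le_of_struct (A C D : Subgroup G) [D.Normal]
    (hA : ∀ a ∈ A, ∀ b ∈ A, a * b = b * a) (hC : ∀ a ∈ C, ∀ b ∈ C, a * b = b * a)
    (hAC : ∀ a ∈ A, ∀ c ∈ C, a * c = c * a) (hgen : A ⊔ (C ⊔ D) = ⊤) : commutator G ≤ D := by
  exact Cfsg.Agent.Helper12.Mult.commutator_le_of_struct A C D hA hC hAC hgen

/-- (CONJ) if `a` has no fixed points on `D` then the coset `D a` is a single `D`-class: `e ↦ e a e⁻¹ a⁻¹` is injective on `D`. -/
theorem exists_conj_of_fpf (D : Subgroup G) [D.Normal] (a : G) (hfpf : ∀ d ∈ D, a * d = d * a → d = 1) :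
    ∀ d ∈ D, ∃ e ∈ D, e * a * e⁻¹ = d * a := by
  exact Cfsg.Agent.Helper67.Mult.exists_conj_of_fpf D a hfpf

/-- (CEN) `C_G(g) ∩ D = 1` ⇒ `C_G(g)` embeds in `G/D`. -/
theorem card_centralizer_le_index (D : Subgroup G) [D.Normal] (g : G)
    (hfpf : ∀ d ∈ D, g * d = d * g → d = 1) :
    Nat.card (Subgroup.centralizer ({g} : Set G)) ≤ D.index := by
  exact Cfsg.Agent.Helper12.Mult.card_centralizer_le_index D g hfpf

/-- (FPG) an element outside the normal Sylow subgroup `P` has no fixed points on `D`.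
PROOF: `g = a * u`, `a ∈ A`, `u ∈ P` (`A ⊔ P = ⊤`, `P` normal), `a ≠ 1`; `n = |P|`; `G/D` abelian (`hAB`), `u = c d` (`c ∈ C`, `d ∈ D`), so
`g ^ n ∈ a ^ n c ^ n D = a ^ n D`, `a' = a ^ n ≠ 1` (`n` prime to `|A|`); `g ^ n = d' a'` is `e a' e⁻¹` (`hCONJ`), which has no fixed points
on `D`; a fixed point of `g` is one of `g ^ n`. -/
theorem fpf_of_not_mem (p : ℕ) (hp : p.Prime) (A P C D : Subgroup G) [P.Normal] [D.Normal] (hP : IsPGroup p P)
    (hcop : (Nat.card A).Coprime p) (hAP : A ⊔ P = ⊤) (hCD : C ⊔ D = P) (hCA : ∀ a ∈ A, ∀ c ∈ C, a * c = c * a)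
    (hAB : commutator G ≤ D)
    (hCONJ : ∀ a : G, (∀ d ∈ D, a * d = d * a → d = 1) → ∀ d ∈ D, ∃ e ∈ D, e * a * e⁻¹ = d * a)
    (hfpf : ∀ a ∈ A, a ≠ 1 → ∀ d ∈ D, a * d = d * a → d = 1)
    (g : G) (hg : g ∉ P) : ∀ d ∈ D, g * d = d * g → d = 1 := by
  exact Cfsg.Agent.Helper60.Mult.fpf_of_not_mem p hp A P C D hP hcop hAP hCD hCA hAB hCONJ hfpf g hg

/-- (NP) products of elements of coprime prime power orders avoid a normal Sylow subgroup. -/
theorem not_mem_of_copPP (p : ℕ) [Fact p.Prime] (P : Sylow p G) (hPn : (P : Subgroup G).Normal) (x y : G)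
    (hx : x ≠ 1) (hy : y ≠ 1) (hxy : CopPP x y) :
    x * y ∉ (P : Subgroup G) ∧ (x ∉ (P : Subgroup G) ∨ y ∉ (P : Subgroup G)) := by
  exact Cfsg.Agent.Helper60.Mult.not_mem_of_copPP p P hPn x y hx hy hxy

end Cfsg.Agent.Helper79.Mult.Skel
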