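import Mathlib
import Cfsg.Agent.Helper79.Mult.Defs
import Cfsg.Agent.Helper79.Mult.Pieces
import Cfsg.Agent.Helper74.CharBasic
import Cfsg.Agent.Helper80.CharLevel
import Cfsg.Agent.Helper15.LinChar

/-!
# S4756: assembly, part A (character side)
-/

set_option autoImplicit false

universe u

namespace Cfsg.Agent.Helper79.Mult

open Cfsg Cfsg.Agent.Helper79.Mult.Skel

variable {G : Type u} [Group G] [Finite G]

/-- (VAN) nonlinear characters vanish at elements with small centralizer -/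
theorem vanish_of_card_le (g : G)
    (h : Nat.card (Subgroup.centralizer ({g} : Set G)) ≤ (commutator G).index)
    (χ : IrrCharacter G) (hχ : (χ : G → ℂ) 1 ≠ 1) : (χ : G → ℂ) g = 0 := by
  have hfin : Finite (IrrCharacter G) := Helper74.irr_finite
  have hsplit := card_centralizer_eq_add g
  have hle : (Nat.card (Subgroup.centralizer ({g} : Set G)) : ℝ) ≤ ((commutator G).index : ℝ) := by
    exact_mod_cast h
  set f : {χ : IrrCharacter G // (χ : G → ℂ) 1 ≠ 1} → ℝ :=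
    fun χ => ‖((χ : IrrCharacter G) : G → ℂ) g‖ ^ 2 with hf
  have hnonneg : ∀ i, 0 ≤ f i := fun i => by positivity
  have hsum : ∑ᶠ i, f i ≤ 0 := by
    have : (Nat.card (Subgroup.centralizer ({g} : Set G)) : ℝ) =
        ((commutator G).index : ℝ) + ∑ᶠ i, f i := hsplit
    linarith
  have hsingle : f ⟨χ, hχ⟩ ≤ ∑ᶠ i, f i :=
    single_le_finsum ⟨χ, hχ⟩ (Set.toFinite _) hnonneg
  have h0 : f ⟨χ, hχ⟩ = 0 := le_antisymm (hsingle.trans hsum) (hnonneg _)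
  have h1 : ‖(χ : G → ℂ) g‖ ^ 2 = 0 := h0
  have h2 : ‖(χ : G → ℂ) g‖ = 0 := by
    exact pow_eq_zero_iff (two_ne_zero) |>.mp h1
  exact norm_eq_zero.mp h2

/-- (ORD) if all nonlinear characters vanish at `y` then `|C_G(y)| = |G : G'|` -/
theorem card_centralizer_of_vanish (y : G)
    (h : ∀ χ : IrrCharacter G, (χ : G → ℂ) 1 ≠ 1 → (χ : G → ℂ) y = 0) :
    Nat.card (Subgroup.centralizer ({y} : Set G)) = (commutator G).index := by
  have hsplit := card_centralizer_eq_add y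
  have hz : ∑ᶠ χ : {χ : IrrCharacter G // (χ : G → ℂ) 1 ≠ 1},
      ‖((χ : IrrCharacter G) : G → ℂ) y‖ ^ 2 = 0 := by
    apply finsum_eq_zero_of_forall_eq_zero
    intro χ
    rw [h χ.1 χ.2]
    simp
  rw [hz, add_zero] at hsplit
  exact_mod_cast hsplit

/-- (ONEP) one prime off which all nonlinear characters vanish -/
theorem exists_prime_vanish (h : Mult G) (hna : ¬ ∀ a b : G, a * b = b * a) :
    ∃ p : ℕ, p.Prime ∧ ∀ χ : IrrCharacter G, (χ : G → ℂ) 1 ≠ 1 →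
      ∀ y : G, y ≠ 1 → OffP p y → (χ : G → ℂ) y = 0 := by
  classical
  -- step A
  have hA : ∀ χ : IrrCharacter G, (χ : G → ℂ) 1 ≠ 1 → ∃ p : ℕ, p.Prime ∧
      ∀ y : G, y ≠ 1 → OffP p y → (χ : G → ℂ) y = 0 := by
    intro χ hχ
    by_cases hex : ∃ x : G, x ≠ 1 ∧ (∃ r a : ℕ, r.Prime ∧ orderOf x = r ^ a) ∧ (χ : G → ℂ) x ≠ 0
    · obtain ⟨x, hx1, ⟨r, a, hr, hxa⟩, hχx⟩ := hex
      refine ⟨r, hr, ?_⟩
      rintro y hy ⟨q, b, hq, hqr, hyb⟩
      have := mul_eq_zero_of_mult h χ hχ x y hx1 hy ⟨r, q, a, b, hr, hq, hqr.symm, hxa, hyb⟩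
      rcases mul_eq_zero.mp this with h1 | h1
      · exact absurd h1 hχx
      · exact h1
    · refine ⟨2, Nat.prime_two, ?_⟩
      rintro y hy ⟨q, b, hq, -, hyb⟩
      by_contra hne
      exact hex ⟨y, hy, ⟨q, b, hq, hyb⟩, hne⟩
  -- step B
  have hB : ∀ (χ : IrrCharacter G), (χ : G → ℂ) 1 ≠ 1 → ∀ p : ℕ, p.Prime →
      (∀ y : G, y ≠ 1 → OffP p y → (χ : G → ℂ) y = 0) →
      0 < Cfsg.charDegree (χ : G → ℂ) ∧ ordCompl[p] (Nat.card G) ∣ Cfsg.charDegree (χ : G → ℂ) ∧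
        Cfsg.charDegree (χ : G → ℂ) ^ 2 < Nat.card G := by
    intro χ hχ p hp hv
    exact ⟨Helper80.IsIrrCharacter.charDegree_pos χ.2,
      ordCompl_dvd_degree (fun R χ hv => card_dvd_degree R χ hv) p hp χ hv, degree_sq_lt_card χ hχ⟩
  obtain ⟨χ₀, hχ₀⟩ := exists_nonlinear hna
  obtain ⟨p₀, hp₀, hv₀⟩ := hA χ₀ hχ₀
  refine ⟨p₀, hp₀, ?_⟩
  intro ψ hψ
  obtain ⟨q, hq, hvq⟩ := hA ψ hψ
  by_cases hqp : q = p₀
  · subst hqp
    exact hvq
  · exfalso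
    obtain ⟨hd0, hd, hd2⟩ := hB χ₀ hχ₀ p₀ hp₀ hv₀
    obtain ⟨he0, he, he2⟩ := hB ψ hψ q hq hvq
    exact arith_two_primes (Nat.card G) p₀ q _ _ Nat.card_pos hp₀ hq (Ne.symm hqp) hd0 he0 hd hd2 he he2

end Cfsg.Agent.Helper79.Mult
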