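import Mathlib
import Cfsg.Agent.Helper79.Mult.Defs
import Cfsg.Agent.Helper79.Mult.Pieces
import Cfsg.Agent.Helper79.Mult.AsmA

/-!
# S4756: assembly, part B: (1) ⇒ (2)
-/

set_option autoImplicit false

universe u

namespace Cfsg.Agent.Helper79.Mult

open Cfsg Cfsg.Agent.Helper79.Mult.Skel

variable {G : Type u} [Group G] [Finite G]

/-- a nontrivial element has a power of prime order -/
theorem exists_pow_prime_order (a : G) (ha : a ≠ 1) :
    ∃ (q k : ℕ), q.Prime ∧ q ∣ orderOf a ∧ orderOf (a ^ k) = q := by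
  have ho : orderOf a ≠ 1 := by
    intro h
    exact ha (orderOf_eq_one_iff.mp h)
  obtain ⟨q, hq, hqd⟩ := Nat.exists_prime_and_dvd ho
  refine ⟨q, orderOf a / q, hq, hqd, ?_⟩
  exact orderOf_pow_orderOf_div (orderOf_pos a).ne' hqd

theorem struct_of_mult (h : Mult G) (hpg : ¬ ∃ p : ℕ, p.Prime ∧ IsPGroup p G)
    (hna : ¬ ∀ a b : G, a * b = b * a) :
    ∃ (p : ℕ) (_ : Fact p.Prime) (P : Sylow p G) (A : Subgroup G),
      (P : Subgroup G).Normal ∧ IsCyclic ↥A ∧ A ≠ ⊥ ∧ (Nat.card ↥A).Coprime p ∧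
      A ⊔ (P : Subgroup G) = ⊤ ∧
      IsMulCommutative ↥((P : Subgroup G) ⊓ Subgroup.centralizer (A : Set G)) ∧
      (⁅A, (P : Subgroup G)⁆).Normal ∧
      ((P : Subgroup G) ⊓ Subgroup.centralizer (A : Set G)) ⊔ ⁅A, (P : Subgroup G)⁆ = (P : Subgroup G) ∧
      ((P : Subgroup G) ⊓ Subgroup.centralizer (A : Set G)) ⊓ ⁅A, (P : Subgroup G)⁆ = ⊥ ∧
      ∀ a ∈ A, a ≠ 1 → ∀ d ∈ ⁅A, (P : Subgroup G)⁆, a * d = d * a → d = 1 := by
  classical
  obtain ⟨p, hp, hV⟩ := exists_prime_vanish h hna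
  have hORD : ∀ y : G, y ≠ 1 → OffP p y →
      Nat.card (Subgroup.centralizer ({y} : Set G)) = (commutator G).index := by
    intro y hy hoff
    exact card_centralizer_of_vanish y (fun χ hχ => hV χ hχ y hy hoff)
  have hGP : IsPGroup p (commutator G) := isPGroup_commutator p hp hORD
  have : Fact p.Prime := ⟨hp⟩
  obtain ⟨P, hDP⟩ := hGP.exists_le_sylow
  have hcomm_mem : ∀ a b : G, a * b * a⁻¹ * b⁻¹ ∈ commutator G := by
    intro a b
    rw [commutator_def]
    exact Subgroup.commutator_mem_commutator (Subgroup.mem_top a) (Subgroup.mem_top b)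
  have hPn : (P : Subgroup G).Normal := by
    constructor
    intro x hx g
    have h1 : g * x * g⁻¹ = (g * x * g⁻¹ * x⁻¹) * x := by group
    rw [h1]
    exact (P : Subgroup G).mul_mem (hDP (hcomm_mem g x)) hx
  have hcopP : Nat.Coprime (Nat.card (P : Subgroup G)) (P : Subgroup G).index := P.card_coprime_index
  obtain ⟨A, hcompl⟩ := Subgroup.exists_right_complement'_of_coprime hcopP
  have hsup : (P : Subgroup G) ⊔ A = ⊤ := hcompl.sup_eq_top
  have hinf : (P : Subgroup G) ⊓ A = ⊥ := hcompl.disjoint.eq_bot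
  have hcardA : Nat.card A = (P : Subgroup G).index := hcompl.symm.index_eq_card.symm
  have hcopA : (Nat.card A).Coprime p := by
    rw [hcardA]
    exact (Nat.Prime.coprime_iff_not_dvd hp).mpr P.not_dvd_index |>.symm
  have hAab : ∀ a ∈ A, ∀ b ∈ A, a * b = b * a := by
    intro a ha b hb
    have h1 : a * b * a⁻¹ * b⁻¹ ∈ (P : Subgroup G) ⊓ A :=
      ⟨hDP (hcomm_mem a b), A.mul_mem (A.mul_mem (A.mul_mem ha hb) (A.inv_mem ha)) (A.inv_mem hb)⟩
    rw [hinf, Subgroup.mem_bot] at h1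
    calc a * b = (a * b * a⁻¹ * b⁻¹) * (b * a) := by group
      _ = b * a := by rw [h1, one_mul]
  have hA1 : A ≠ ⊥ := by
    intro hA
    apply hpg
    refine ⟨p, hp, ?_⟩
    rw [hA, sup_bot_eq] at hsup
    have : IsPGroup p (P : Subgroup G) := P.isPGroup'
    intro g
    obtain ⟨k, hk⟩ := this ⟨g, hsup ▸ Subgroup.mem_top g⟩
    exact ⟨k, by simpa using congrArg Subtype.val hk⟩
  -- D
  have hDn : (commutator G).Normal := inferInstance
  have hD1 : commutator G ≠ ⊥ := by
    intro hD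
    apply hna
    intro a b
    have := hcomm_mem a b
    rw [hD, Subgroup.mem_bot] at this
    calc a * b = (a * b * a⁻¹ * b⁻¹) * (b * a) := by group
      _ = b * a := by rw [this, one_mul]
  -- every prime-order element of A acts fixed point freely on D
  have hfpf_prime : ∀ y ∈ A, ∀ q : ℕ, q.Prime → orderOf y = q →
      ∀ d ∈ commutator G, y * d = d * y → d = 1 := by
    intro y hyA q hq hyq
    have hy1 : y ≠ 1 := by
      intro h1
      rw [h1, orderOf_one] at hyq
      exact hq.one_lt.ne hyq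
    have hqp : q ≠ p := by
      intro hqp
      have hdvd : q ∣ Nat.card A := by
        rw [← hyq]
        have := orderOf_dvd_natCard (⟨y, hyA⟩ : A)
        rwa [Subgroup.orderOf_mk] at this
      rw [hqp] at hdvd
      have := Nat.Coprime.eq_one_of_dvd hcopA.symm hdvd
      exact hp.one_lt.ne' this
    have hoff : OffP p y := ⟨q, 1, hq, hqp, by rw [hyq, pow_one]⟩
    apply commute_eq_one_of_card (commutator G) y
    · intro g
      exact exists_commute_in_coset p hp (commutator G) hGP le_rfl y hoff g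
    · exact hORD y hy1 hoff
  have hfpf_all : ∀ a ∈ A, a ≠ 1 → ∀ d ∈ commutator G, a * d = d * a → d = 1 := by
    intro a haA ha1 d hd hcomm
    obtain ⟨q, k, hq, -, hk⟩ := exists_pow_prime_order a ha1
    apply hfpf_prime (a ^ k) (A.pow_mem haA k) q hq hk d hd
    have : Commute a d := hcomm
    exact (this.pow_left k).eq
  -- a prime order element of A
  obtain ⟨y, hyA, q, hq, hyq⟩ : ∃ y ∈ A, ∃ q : ℕ, q.Prime ∧ orderOf y = q := by
    obtain ⟨a, ha1⟩ := (Subgroup.ne_bot_iff_exists_ne_one.mp hA1)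
    have ha1' : (a : G) ≠ 1 := fun h => ha1 (Subtype.ext h)
    obtain ⟨q, k, hq, -, hk⟩ := exists_pow_prime_order (a : G) ha1'
    exact ⟨(a : G) ^ k, A.pow_mem a.2 k, q, hq, hk⟩
  have hy1 : y ≠ 1 := by
    intro h1
    rw [h1, orderOf_one] at hyq
    exact hq.one_lt.ne hyq
  have hfy := hfpf_prime y hyA q hq hyq
  have hqp : q ≠ p := by
    intro hqp
    have hdvd : q ∣ Nat.card A := by
      rw [← hyq]
      have := orderOf_dvd_natCard (⟨y, hyA⟩ : A)
      rwa [Subgroup.orderOf_mk] at this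
    rw [hqp] at hdvd
    have := Nat.Coprime.eq_one_of_dvd hcopA.symm hdvd
    exact hp.one_lt.ne' this
  have hoffy : OffP p y := ⟨q, 1, hq, hqp, by rw [hyq, pow_one]⟩
  -- D = [A, P]
  have hDeq : ⁅A, (P : Subgroup G)⁆ = commutator G := by
    apply le_antisymm
    · rw [commutator_def]
      exact Subgroup.commutator_mono le_top le_top
    · exact le_commutator_of_fpf A (P : Subgroup G) (commutator G) hDP y hyA hfy
  -- C ⊓ D = ⊥
  have hCD : ((P : Subgroup G) ⊓ Subgroup.centralizer (A : Set G)) ⊓ commutator G = ⊥ := by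
    rw [eq_bot_iff]
    rintro d ⟨⟨-, hdC⟩, hdD⟩
    rw [Subgroup.mem_bot]
    apply hfy d hdD
    exact (Subgroup.mem_centralizer_iff.mp hdC y hyA)
  refine ⟨p, ⟨hp⟩, P, A, hPn, ?_, hA1, hcopA, ?_, ?_, ?_, ?_, ?_, ?_⟩
  · -- cyclic
    exact isCyclic_of_fpf p hp A (commutator G) hGP hD1 hAab hcopA hfpf_all
  · rw [sup_comm]; exact hsup
  · -- C abelian
    rw [isMulCommutative_iff]
    rintro ⟨c₁, hc₁⟩ ⟨c₂, hc₂⟩
    apply Subtype.ext
    show c₁ * c₂ = c₂ * c₁
    have hmem : c₁ * c₂ * c₁⁻¹ * c₂⁻¹ ∈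
        ((P : Subgroup G) ⊓ Subgroup.centralizer (A : Set G)) ⊓ commutator G :=
      ⟨Subgroup.mul_mem _ (Subgroup.mul_mem _ (Subgroup.mul_mem _ hc₁ hc₂) (Subgroup.inv_mem _ hc₁))
        (Subgroup.inv_mem _ hc₂), hcomm_mem c₁ c₂⟩
    rw [hCD, Subgroup.mem_bot] at hmem
    calc c₁ * c₂ = (c₁ * c₂ * c₁⁻¹ * c₂⁻¹) * (c₂ * c₁) := by group
      _ = c₂ * c₁ := by rw [hmem, one_mul]
  · rw [hDeq]; exact hDn
  · -- C ⊔ D = P
    rw [hDeq]
    apply le_antisymm
    · exact sup_le inf_le_left hDP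
    · intro u hu
      obtain ⟨d, hd, hcomm⟩ := exists_commute_in_coset p hp (commutator G) hGP le_rfl y hoffy u
      have hcP : u * d ∈ (P : Subgroup G) := (P : Subgroup G).mul_mem hu (hDP hd)
      have hcC : u * d ∈ Subgroup.centralizer (A : Set G) := by
        rw [Subgroup.mem_centralizer_iff]
        intro a ha
        exact commute_of_commute_single A hAab y hyA hfy (u * d) hcomm a ha
      have h1 : u = (u * d) * d⁻¹ := by group
      rw [h1]
      exact Subgroup.mul_mem_sup ⟨hcP, hcC⟩ (Subgroup.inv_mem _ hd)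
  · rw [hDeq]; exact hCD
  · rw [hDeq]; exact hfpf_all

end Cfsg.Agent.Helper79.Mult
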