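import Mathlib
import Cfsg.Agent.Helper79.Mult.Defs
import Cfsg.Agent.Helper79.Mult.Pieces
import Cfsg.Agent.Helper79.Mult.AsmA

/-!
# S4756: assembly, part C: (2) ⇒ (1)
-/

set_option autoImplicit false

universe u

namespace Cfsg.Agent.Helper79.Mult

open Cfsg Cfsg.Agent.Helper79.Mult.Skel

variable {G : Type u} [Group G] [Finite G]

omit [Finite G] in
/-- in a `p`-group there are no pairs of nontrivial elements of coprime prime power orders -/
theorem not_copPP_of_isPGroup (p : ℕ) (hp : p.Prime) (hG : IsPGroup p G) (x y : G) (hx : x ≠ 1) (hy : y ≠ 1)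
    (hxy : CopPP x y) : False := by
  obtain ⟨p₁, p₂, a, b, hp₁, hp₂, hne, hxa, hyb⟩ := hxy
  have key : ∀ (z : G) (r c : ℕ), r.Prime → z ≠ 1 → orderOf z = r ^ c → r = p := by
    intro z r c hr hz hzc
    obtain ⟨k, hk⟩ := hG z
    have hc : c ≠ 0 := by
      rintro rfl
      rw [pow_zero] at hzc
      exact hz (orderOf_eq_one_iff.mp hzc)
    have h1 : r ∣ orderOf z := by
      rw [hzc]
      exact dvd_pow_self r hc
    have h2 : orderOf z ∣ p ^ k := orderOf_dvd_of_pow_eq_one hk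
    have h3 : r ∣ p := hr.dvd_of_dvd_pow (h1.trans h2)
    exact (Nat.prime_dvd_prime_iff_eq hr hp).mp h3
  exact hne ((key x p₁ a hp₁ hx hxa).trans (key y p₂ b hp₂ hy hyb).symm)

/-- in an abelian group all irreducible characters are linear -/
theorem linear_of_comm (hab : ∀ a b : G, a * b = b * a) (χ : IrrCharacter G) : (χ : G → ℂ) 1 = 1 := by
  by_contra hχ
  have hv := vanish_of_card_le (1 : G) (by
    have h1 : commutator G = ⊥ := by
      rw [eq_bot_iff, commutator_def, Subgroup.commutator_le]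
      intro a _ b _
      rw [Subgroup.mem_bot, commutatorElement_def, hab a b]
      group
    rw [h1, Subgroup.index_bot]
    exact Subgroup.card_le_card_group _) χ hχ
  exact Helper80.IsIrrCharacter.map_one_ne_zero χ.2 hv

theorem mult_of_struct (p : ℕ) [hp : Fact p.Prime] (P : Sylow p G) (A : Subgroup G)
    (hPn : (P : Subgroup G).Normal) (hcyc : IsCyclic ↥A) (hcop : (Nat.card ↥A).Coprime p)
    (hAP : A ⊔ (P : Subgroup G) = ⊤)
    (hCab : IsMulCommutative ↥((P : Subgroup G) ⊓ Subgroup.centralizer (A : Set G)))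
    (hDn : (⁅A, (P : Subgroup G)⁆).Normal)
    (hCD : ((P : Subgroup G) ⊓ Subgroup.centralizer (A : Set G)) ⊔ ⁅A, (P : Subgroup G)⁆ = (P : Subgroup G))
    (hfpf : ∀ a ∈ A, a ≠ 1 → ∀ d ∈ ⁅A, (P : Subgroup G)⁆, a * d = d * a → d = 1) : Mult G := by
  classical
  have hA : ∀ a ∈ A, ∀ b ∈ A, a * b = b * a := by
    intro a ha b hb
    have hc : IsMulCommutative ↥A := IsCyclic.isMulCommutative
    have h1 : (⟨a, ha⟩ : A) * ⟨b, hb⟩ = ⟨b, hb⟩ * ⟨a, ha⟩ := (isMulCommutative_iff.mp hc) _ _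
    exact congrArg Subtype.val h1
  have hC : ∀ a ∈ (P : Subgroup G) ⊓ Subgroup.centralizer (A : Set G),
      ∀ b ∈ (P : Subgroup G) ⊓ Subgroup.centralizer (A : Set G), a * b = b * a := by
    intro a ha b hb
    have h1 := (isMulCommutative_iff.mp hCab) ⟨a, ha⟩ ⟨b, hb⟩
    exact congrArg Subtype.val h1
  have hAC : ∀ a ∈ A, ∀ c ∈ (P : Subgroup G) ⊓ Subgroup.centralizer (A : Set G), a * c = c * a := by
    intro a ha c hc
    exact Subgroup.mem_centralizer_iff.mp hc.2 a ha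
  have hgen : A ⊔ (((P : Subgroup G) ⊓ Subgroup.centralizer (A : Set G)) ⊔ ⁅A, (P : Subgroup G)⁆) = ⊤ := by
    rw [hCD]; exact hAP
  have hAB : commutator G ≤ ⁅A, (P : Subgroup G)⁆ :=
    commutator_le_of_struct A _ _ hA hC hAC hgen
  have hvan : ∀ g : G, g ∉ (P : Subgroup G) → ∀ χ : IrrCharacter G, (χ : G → ℂ) 1 ≠ 1 →
      (χ : G → ℂ) g = 0 := by
    intro g hg χ hχ
    have hf := fpf_of_not_mem p hp.out A (P : Subgroup G) _ ⁅A, (P : Subgroup G)⁆ P.isPGroup' hcop hAP hCD hAC hAB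
      (fun a ha => exists_conj_of_fpf ⁅A, (P : Subgroup G)⁆ a ha) hfpf g hg
    have hle := card_centralizer_le_index ⁅A, (P : Subgroup G)⁆ g hf
    have hle2 : (⁅A, (P : Subgroup G)⁆).index ≤ (commutator G).index :=
      Nat.le_of_dvd (Nat.pos_of_ne_zero Subgroup.index_ne_zero_of_finite) (Subgroup.index_dvd_of_le hAB)
    exact vanish_of_card_le g (hle.trans hle2) χ hχ
  intro x y χ hx hy hxy
  by_cases hχ : (χ : G → ℂ) 1 = 1
  · exact Helper15.linChar_mul (Helper74.isCharacter_of_isIrr χ.2) hχ x y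
  · obtain ⟨h1, h2⟩ := not_mem_of_copPP p P hPn x y hx hy hxy
    rw [hvan (x * y) h1 χ hχ]
    rcases h2 with h2 | h2
    · rw [hvan x h2 χ hχ, zero_mul]
    · rw [hvan y h2 χ hχ, mul_zero]

end Cfsg.Agent.Helper79.Mult
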